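import Mathlib
import Cfsg.Agent.H610.EB.Red
import Cfsg.Agent.H579.RR.Psl2Real
import Cfsg.Agent.Characters.GaloisIrr
import Cfsg.Agent.Lib.AutSL2Out
import Cfsg.Agent.H670.PSing
import Cfsg.Agent.S2300

/-!
# S4515, R4: a moved character of `SL(2, 2^e)`

* `inner_of_class`: an automorphism of `SL(2, 2^e)` which preserves the conjugacy classes is inner;
* `order_cases`: an element of `SL(2, 2^e)` is an involution or has odd order;
* `exists_moved`: a non-inner automorphism moves an irreducible character of odd degree, which is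
  real.
-/

set_option autoImplicit false

namespace Cfsg.Agent.H832.EB515

open Cfsg Cfsg.Agent.H610.EB Cfsg.Agent.Characters.Core
open scoped ComplexConjugate

universe u

section sl

variable {F : Type} [Field F] [Fintype F]

local notation "SL" => Matrix.SpecialLinearGroup (Fin 2) F

theorem charP_two {e : ℕ} (hF : Fintype.card F = 2 ^ e) (he : 2 ≤ e) : CharP F 2 := by
  apply ringChar.of_eq
  rw [FiniteField.even_card_iff_char_two, hF]
  obtain ⟨k, rfl⟩ : ∃ k, e = k + 1 := ⟨e - 1, by omega⟩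
  rw [pow_succ]
  exact Nat.mul_mod_left _ _

/-- in characteristic two, conjugation by an invertible matrix is inner -/
theorem conjGL_inner [CharP F 2] (g : GL (Fin 2) F) :
    ∃ s : SL, ∀ x : SL, Lib.SL2Mat.conjGL g x = s * x * s⁻¹ := by
  have hg : g.1.det ≠ 0 := (Matrix.GeneralLinearGroup.det g).ne_zero
  obtain ⟨d, hd⟩ := FiniteField.isSquare_of_char_two (ringChar.eq F 2) g.1.det
  exact Lib.AutSL2Out.conjGL_of_det_sq g d (by
    rintro rfl
    rw [mul_zero] at hd
    exact hg hd) (by rw [hd, pow_two])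

omit [Fintype F] in
theorem trace_conj (s x : SL) : (s * x * s⁻¹ : SL).1.trace = x.1.trace := by
  rw [Matrix.SpecialLinearGroup.coe_mul, Matrix.SpecialLinearGroup.coe_mul, Matrix.trace_mul_comm,
    ← Matrix.mul_assoc, ← Matrix.SpecialLinearGroup.coe_mul, inv_mul_cancel,
    Matrix.SpecialLinearGroup.coe_one, Matrix.one_mul]

/-- an automorphism of `SL(2, 2^e)` which preserves the classes is inner -/
theorem inner_of_class [CharP F 2] (α : MulAut SL) (h : ∀ x : SL, IsConj (α x) x) :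
    ∃ s : SL, ∀ x : SL, α x = s * x * s⁻¹ := by
  obtain ⟨g, σ, rfl⟩ := Lib.AutSL2Out.exists_eq α
  obtain ⟨s, hs⟩ := conjGL_inner g
  by_cases hσ : ∀ t : F, σ t = t
  · have h1 : σ = 1 := RingEquiv.ext hσ
    subst h1
    rw [map_one, mul_one]
    exact ⟨s, hs⟩
  · exfalso
    push Not at hσ
    obtain ⟨t, ht⟩ := hσ
    let g0 : SL := ⟨!![0, 1; 1, t], by
      rw [Matrix.det_fin_two_of, zero_mul, mul_one, zero_sub, CharTwo.neg_eq]⟩
    obtain ⟨c, hc⟩ := isConj_iff.1 (h g0)
    have h1 : (Lib.SL2Mat.fieldAut σ g0).1.trace = σ t := by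
      rw [Matrix.trace_fin_two]
      change σ 0 + σ t = σ t
      rw [map_zero, zero_add]
    have h2 : g0.1.trace = t := by
      rw [Matrix.trace_fin_two]
      change 0 + t = t
      rw [zero_add]
    have h3 : (c * (Lib.SL2Mat.conjGL g * Lib.SL2Mat.fieldAut σ) g0 * c⁻¹ : SL).1.trace = σ t := by
      rw [trace_conj, MulAut.mul_apply, hs, trace_conj, h1]
    rw [hc, h2] at h3
    exact ht h3.symm

omit [Fintype F] in
theorem sq_eq (x : SL) : x.1 * x.1 = x.1.trace • x.1 - 1 := by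
  have hdet : x.1 0 0 * x.1 1 1 - x.1 0 1 * x.1 1 0 = 1 := by
    rw [← Matrix.det_fin_two]
    exact x.2
  ext i j
  fin_cases i <;> fin_cases j
  · simp [Matrix.mul_apply, Matrix.trace_fin_two, Fin.sum_univ_two]
    linear_combination -hdet
  · simp [Matrix.mul_apply, Matrix.trace_fin_two, Fin.sum_univ_two]
    ring
  · simp [Matrix.mul_apply, Matrix.trace_fin_two, Fin.sum_univ_two]
    ring
  · simp [Matrix.mul_apply, Matrix.trace_fin_two, Fin.sum_univ_two]
    linear_combination -hdet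

omit [Fintype F] in
theorem pow_lin (x : SL) (n : ℕ) : ∃ a b : F, (x ^ n : SL).1 = a • 1 + b • x.1 := by
  induction n with
  | zero => exact ⟨1, 0, by simp⟩
  | succ n ih =>
    obtain ⟨a, b, h⟩ := ih
    refine ⟨-b, a + b * x.1.trace, ?_⟩
    rw [pow_succ, Matrix.SpecialLinearGroup.coe_mul, h, add_mul, smul_mul_assoc, one_mul,
      smul_mul_assoc, sq_eq]
    module

/-- an element of even order is an involution -/
theorem order_cases [CharP F 2] (x : SL) : x * x = 1 ∨ Odd (orderOf x) := by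
  by_contra hcon
  push Not at hcon
  obtain ⟨h1, h2⟩ := hcon
  rw [Nat.not_odd_iff_even] at h2
  obtain ⟨n, hn⟩ := h2
  have hpos : 0 < orderOf x := orderOf_pos x
  have hh1 : x ^ n ≠ 1 := by
    intro h
    have := orderOf_dvd_of_pow_eq_one h
    have := Nat.le_of_dvd (by omega) this
    omega
  have hh2 : x ^ n * x ^ n = 1 := by rw [← pow_add, ← hn, pow_orderOf_eq_one]
  -- the trace of an involution is zero
  have h3 : ∀ y : SL, y * y = 1 → y.1.trace = 0 := by
    intro y hy
    have h4 := sq_eq y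
    have h5 : y.1 * y.1 = 1 := by
      rw [← Matrix.SpecialLinearGroup.coe_mul, hy, Matrix.SpecialLinearGroup.coe_one]
    rw [h5] at h4
    have h6 : y.1.trace • y.1 = 0 := by
      have : y.1.trace • y.1 = (1 : Matrix (Fin 2) (Fin 2) F) + 1 := sub_eq_iff_eq_add.1 h4.symm
      rw [this]
      exact CharTwo.add_self_eq_zero _
    rcases smul_eq_zero.1 h6 with h7 | h7
    · exact h7
    · exfalso
      rw [h7, mul_zero] at h5
      exact zero_ne_one h5
  -- trace of `x`
  obtain ⟨a, b, hab⟩ := pow_lin x n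
  have h4 := h3 _ hh2
  rw [hab, Matrix.trace_add, Matrix.trace_smul, Matrix.trace_smul, Matrix.trace_one,
    Fintype.card_fin, smul_eq_mul, smul_eq_mul] at h4
  have h5 : ((2 : ℕ) : F) = 0 := CharP.cast_eq_zero F 2
  rw [h5, mul_zero, zero_add] at h4
  rcases mul_eq_zero.1 h4 with h6 | h6
  · apply hh1
    rw [h6, zero_smul, add_zero] at hab
    have h7 := (x ^ n).2
    rw [hab, Matrix.det_smul, Matrix.det_one, mul_one, Fintype.card_fin] at h7
    have h8 : a = 1 := by
      have : (a - 1) ^ 2 = 0 := by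
        rw [sub_pow_char a 1, h7, one_pow, sub_self]
      exact sub_eq_zero.1 (pow_eq_zero_iff two_ne_zero |>.1 this)
    apply Subtype.ext
    rw [hab, h8, one_smul]
    rfl
  · apply h1
    have h7 := sq_eq x
    rw [h6, zero_smul, zero_sub] at h7
    apply Subtype.ext
    rw [Matrix.SpecialLinearGroup.coe_mul, h7, Matrix.SpecialLinearGroup.coe_one]
    exact CharTwo.neg_eq _

/-- the characters of `SL(2, 2^e)` are fixed by the power map -/
theorem fixed [CharP F 2] {k : ℕ} (hk : IsK SL k) {θ : SL → ℂ} (hθ : IsIrrCharacter SL θ)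
    (g : SL) : θ (g ^ k) = θ g := by
  classical
  rcases order_cases g with h | h
  · rw [hk.two g]
    have h1 : orderOf g ∣ 2 ^ 1 := by
      apply orderOf_dvd_of_pow_eq_one
      rw [pow_one, pow_two, h]
    obtain ⟨j, -, hj⟩ := (Nat.dvd_prime_pow Nat.prime_two).1 h1
    exact ⟨j, hj⟩
  · rw [hk.odd g h]
    have hsq : IsSquare (-1 : F) :=
      FiniteField.isSquare_of_char_two (ringChar.eq F 2) _
    obtain ⟨c, hc⟩ := isConj_iff.1 (H579.RR.isConj_inv_of_sq hsq g)
    rw [← hc]
    exact isIrr_isClassFunction hθ g c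

theorem exists_moved_sl [CharP F 2] (hF4 : 4 ≤ Fintype.card F) (α : MulAut SL)
    (hα : ¬ ∃ s : SL, ∀ x : SL, α x = s * x * s⁻¹) {k : ℕ} (hk : IsK SL k) :
    ∃ θ : IrrCharacter SL, Odd (charDegree (θ : SL → ℂ)) ∧
      (∀ g : SL, (θ : SL → ℂ) (g ^ k) = (θ : SL → ℂ) g) ∧
      ∃ g : SL, (θ : SL → ℂ) (α g) ≠ (θ : SL → ℂ) g := by
  have h1 : ∃ x : SL, ¬ IsConj (α x) x := by
    by_contra hcon
    push Not at hcon
    exact hα (inner_of_class α hcon)
  obtain ⟨x, hx⟩ := h1
  have h2 : ∃ θ : SL → ℂ, IsIrrCharacter SL θ ∧ θ (α x) ≠ θ x := by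
    by_contra hcon
    push Not at hcon
    exact hx (Characters.GaloisIrr.isConj_of_forall_irr hcon)
  obtain ⟨θ, hθ, hne⟩ := h2
  obtain ⟨hA, hB⟩ := S2300.result (F := F)
  obtain ⟨-, hq, -, -⟩ := hB hF4
  have heven : Even (Fintype.card F) := by
    have h3 := FiniteField.even_card_iff_char_two.1 (ringChar.eq F 2)
    exact Nat.even_iff.2 h3
  refine ⟨⟨θ, hθ⟩, ?_, fun g => fixed hk hθ g, x, hne⟩
  show Odd (charDegree θ)
  rcases hA θ hθ with h | h | h | h
  · rw [H670.PSing.charDegree_eq_of (n := 1) (by rw [h, Nat.cast_one])]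
    exact odd_one
  · rw [H670.PSing.charDegree_eq_of (n := Fintype.card F - 1)
      (by rw [h, Nat.cast_sub (by omega), Nat.cast_one])]
    exact Nat.Even.sub_odd (by omega) heven odd_one
  · exfalso
    have hαθ : IsIrrCharacter SL (θ ∘ (α : SL →* SL)) := isIrr_comp _ α.surjective hθ
    have := (Nat.card_eq_one_iff_unique.1 hq).1
    have h4 := Subsingleton.elim
      (⟨⟨θ, hθ⟩, h⟩ : {χ : IrrCharacter SL // (χ : SL → ℂ) 1 = (Fintype.card F : ℂ)})
      ⟨⟨θ ∘ (α : SL →* SL), hαθ⟩, by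
        show θ (α 1) = _
        rw [map_one, h]⟩
    have h5 : θ = θ ∘ (α : SL →* SL) := congrArg (fun z => (z.1.1 : SL → ℂ)) h4
    exact hne (congrFun h5 x).symm
  · rw [H670.PSing.charDegree_eq_of (n := Fintype.card F + 1)
      (by rw [h, Nat.cast_add, Nat.cast_one])]
    exact Even.add_one heven

end sl

/-- [R4] a non-inner automorphism moves a real irreducible character of odd degree -/
theorem exists_moved {S : Type u} [Group S] [Finite S]
    (F : Type) [Field F] [Fintype F] (e : ℕ) (he : 2 ≤ e) (hF : Fintype.card F = 2 ^ e)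
    (hS : Nonempty (S ≃* Matrix.SpecialLinearGroup (Fin 2) F)) (α : MulAut S)
    (hα : ¬ ∃ s : S, ∀ x : S, α x = s * x * s⁻¹) {k : ℕ} (hk : IsK S k) :
    ∃ θ : IrrCharacter S, Odd (charDegree (θ : S → ℂ)) ∧
      (∀ g : S, (θ : S → ℂ) (g ^ k) = (θ : S → ℂ) g) ∧
      ∃ g : S, (θ : S → ℂ) (α g) ≠ (θ : S → ℂ) g := by
  obtain ⟨φ⟩ := hS
  have := charP_two hF he
  have hF4 : 4 ≤ Fintype.card F := by
    rw [hF]
    calc 4 = 2 ^ 2 := by norm_num
      _ ≤ 2 ^ e := Nat.pow_le_pow_right two_pos he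
  let β : MulAut (Matrix.SpecialLinearGroup (Fin 2) F) := (φ.symm.trans α).trans φ
  have hβ : ∀ y, β y = φ (α (φ.symm y)) := fun _ => rfl
  obtain ⟨θ, h1, h2, y, h3⟩ := exists_moved_sl hF4 β (by
    rintro ⟨s, hs⟩
    apply hα
    refine ⟨φ.symm s, fun x => ?_⟩
    have := hs (φ x)
    rw [hβ, φ.symm_apply_apply] at this
    apply φ.injective
    rw [this, map_mul, map_mul, map_inv, φ.apply_symm_apply])
    (hk.of_injective φ.symm.toMonoidHom φ.symm.injective)
  obtain ⟨θ, hθ⟩ := θ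
  change Odd (charDegree θ) at h1
  change ∀ g, θ (g ^ k) = θ g at h2
  change θ (β y) ≠ θ y at h3
  refine ⟨⟨θ ∘ φ.toMonoidHom, isIrr_comp φ.toMonoidHom φ.surjective hθ⟩, ?_, fun g => ?_,
    φ.symm y, ?_⟩
  · have h4 : charDegree (θ ∘ φ.toMonoidHom) = charDegree θ := by
      unfold charDegree
      rw [Function.comp_apply, map_one]
    show Odd (charDegree (θ ∘ φ.toMonoidHom))
    rw [h4]
    exact h1
  · show θ (φ (g ^ k)) = θ (φ g)
    rw [map_pow, h2]
  · show θ (φ (α (φ.symm y))) ≠ θ (φ (φ.symm y))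
    rw [← hβ, φ.apply_symm_apply]
    exact h3

end Cfsg.Agent.H832.EB515
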